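import Groth.Agent.C1SectLib.GeomInt
import Groth.Agent.GenSeesawLib.TwistBC
import Groth.Agent.SpreadOutIso
import Groth.Agent.RuledPushLib.Main

/-!
# Birational triviality of fibrations in genus zero curves
-/

set_option autoImplicit false
set_option backward.isDefEq.respectTransparency false
set_option backward.isDefEq.respectTransparency.types false
set_option linter.style.haveILetI false
set_option linter.unusedSectionVars false
set_option maxHeartbeats 800000

universe u

open CategoryTheory CategoryTheory.Limits AlgebraicGeometry TopologicalSpace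

noncomputable section

namespace Groth.Agent.C1SectLib

/-- Two maps inducing isomorphisms on local rings at a point give isomorphic open subschemes over the base. -/
theorem exists_iso_opens {S X Y F : Scheme.{u}} (sX : X ⟶ S) (sY : Y ⟶ S) [LocallyOfFinitePresentation sX]
    [LocallyOfFinitePresentation sY] (f : F ⟶ X) (g : F ⟶ Y) (hfg : f ≫ sX = g ≫ sY) (ξ : F)
    [IsIso (f.stalkMap ξ)] [IsIso (g.stalkMap ξ)] :
    ∃ (U : X.Opens) (V : Y.Opens) (e : (U : Scheme.{u}) ≅ (V : Scheme.{u})), (U : Set X).Nonempty ∧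
      e.hom ≫ V.ι ≫ sY = U.ι ≫ sX := by
  have he : sX (f ξ) = sY (g ξ) := by
    rw [← Scheme.Hom.comp_apply, hfg, Scheme.Hom.comp_apply]
  have h : sY.stalkMap (g ξ) ≫ g.stalkMap ξ ≫ inv (f.stalkMap ξ) =
      S.presheaf.stalkSpecializes (Inseparable.of_eq he).specializes ≫ sX.stalkMap (f ξ) := by
    rw [← Category.assoc, ← Scheme.Hom.stalkMap_comp, IsIso.comp_inv_eq, Category.assoc,
      ← Scheme.Hom.stalkMap_comp, Scheme.Hom.stalkMap_congr_hom _ _ hfg.symm, TopCat.Presheaf.stalkCongr_hom]
  obtain ⟨U, hU, V, e, hiso, -, he'⟩ := SpreadOut.spread_out_iso sX sY he _ h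
  haveI := hiso
  exact ⟨U, V, asIso e, ⟨_, hU⟩, he'⟩

variable (k : Type u) [Field k] [IsAlgClosed k] {X B : Scheme.{u}} [X.Over (Spec (CommRingCat.of k))]
  [IsProper (X ↘ Spec (CommRingCat.of k))] [IsIntegral X]
  [B.Over (Spec (CommRingCat.of k))] [IsIntegral B] [IsProper (B ↘ Spec (CommRingCat.of k))]
  (π : X ⟶ B) (hπ : π ≫ (B ↘ Spec (CommRingCat.of k)) = X ↘ Spec (CommRingCat.of k))
  (hsurj : Function.Surjective π)

include k hπ hsurj in
theorem exists_birational (hX : topologicalKrullDim X = 2) (hB : topologicalKrullDim B = 1)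
    [GeometricallyIntegral (π.fiberToSpecResidueField (genericPoint B))]
    (hg : letI : (π.fiber (genericPoint B)).Over (Spec (B.residueField (genericPoint B))) :=
        ⟨π.fiberToSpecResidueField (genericPoint B)⟩
      Curv2.genus (B.residueField (genericPoint B)) (π.fiber (genericPoint B)) = 0) :
    ∃ (U : X.Opens) (W : (pullback (B ↘ Spec (CommRingCat.of k)) (CohB1.ProjSpace.toSpec 1 k)).Opens)
      (e : (U : Scheme.{u}) ≅ (W : Scheme.{u})),
      (U : Set X).Nonempty ∧ e.hom ≫ W.ι ≫ pullback.fst (B ↘ Spec (CommRingCat.of k)) (CohB1.ProjSpace.toSpec 1 k) =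
        U.ι ≫ π := by
  haveI := RuledPushLib.isProper_map k π hπ
  haveI := RuledPushLib.lfp_map k π hπ
  let W := pullback (B ↘ Spec (CommRingCat.of k)) (CohB1.ProjSpace.toSpec 1 k)
  let q : W ⟶ B := pullback.fst _ _
  haveI : IsProper q := inferInstance
  letI : W.Over (Spec (CommRingCat.of k)) := ⟨q ≫ (B ↘ Spec (CommRingCat.of k))⟩
  haveI : LocallyOfFinitePresentation q := by
    haveI : IsProper (W ↘ Spec (CommRingCat.of k)) :=
      inferInstanceAs (IsProper (q ≫ (B ↘ Spec (CommRingCat.of k))))
    haveI := EulerIneqLib.isNoetherian_proper (X := B) k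
    rw [HasRingHomProperty.iff_appLE (P := @LocallyOfFinitePresentation)]
    intro V E e
    haveI : IsNoetherianRing ↥Γ(B, V) := IsLocallyNoetherian.component_noetherian V
    exact RingHom.FinitePresentation.of_finiteType.1
      (HasRingHomProperty.appLE (P := @LocallyOfFiniteType) q inferInstance V E e)
  set η := genericPoint B with hη
  let K := B.residueField η
  letI : (π.fiber η).Over (Spec (B.residueField η)) := ⟨π.fiberToSpecResidueField η⟩
  haveI : IsProper (π.fiber η ↘ Spec (CommRingCat.of K)) :=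
    MorphismProperty.pullback_snd (P := @IsProper) π (B.fromSpecResidueField η) inferInstance
  haveI : GeometricallyIntegral (π.fiber η ↘ Spec (CommRingCat.of K)) :=
    inferInstanceAs (GeometricallyIntegral (π.fiberToSpecResidueField η))
  have hdim := dim_genFibre k π hπ hsurj hX hB
  obtain ⟨h0, hreg⟩ := data_of_geomIntegral K (π.fiber η) hdim hg
  haveI := isIntegral_genFibre π hsurj
  obtain ⟨s, hs⟩ := exists_ratPoint K (isCi_one k B hB) (π.fiber η) hdim hreg h0 hg
  haveI := hreg (s default)
  haveI := VBLib.isPrincipalIdealRing_of_regular ((π.fiber η).presheaf.stalk (s default)) (by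
    rw [ringKrullDim_stalk_eq_coheight]
    have h := hdim.le
    rw [ASp.topologicalKrullDim_eq_krullDim] at h
    exact (Order.coheight_le_krullDim _).trans h)
  haveI : IsDomain ((π.fiber η).presheaf.stalk (s default)) := RegLocal.isDomain _
  obtain ⟨e1, he1⟩ := CurveP1Lib.exists_iso_P1_of_section hdim hg s hs inferInstance
  -- the generic fibre of the trivial bundle
  letI := Curv2.resAlgebra k B η
  have hc : B.fromSpecResidueField η ≫ (B ↘ Spec (CommRingCat.of k)) =
      Spec.map (CommRingCat.ofHom (algebraMap k K)) := (GeomIrred.spec_resMap k B η).symm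
  have h2 : IsPullback (pullback.fst q (B.fromSpecResidueField η) ≫ pullback.snd _ _)
      (pullback.snd q (B.fromSpecResidueField η)) (CohB1.ProjSpace.toSpec 1 k)
      (B.fromSpecResidueField η ≫ (B ↘ Spec (CommRingCat.of k))) :=
    (IsPullback.of_hasPullback q (B.fromSpecResidueField η)).paste_horiz
      (IsPullback.of_hasPullback (B ↘ Spec (CommRingCat.of k)) (CohB1.ProjSpace.toSpec 1 k)).flip
  rw [hc] at h2
  let e2 := IsPullback.isoIsPullback _ _ (GenSeesawLib.isPullback_bcMap 1 k K) h2
  have he2 : e2.hom ≫ pullback.snd q (B.fromSpecResidueField η) = CohB1.ProjSpace.toSpec 1 K :=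
    IsPullback.isoIsPullback_hom_snd _ _ _ _
  let ε : π.fiber η ⟶ q.fiber η := e1.hom ≫ e2.hom
  haveI : IsIso ε := inferInstanceAs (IsIso (e1.hom ≫ e2.hom))
  have hε : ε ≫ q.fiberToSpecResidueField η = π.fiberToSpecResidueField η := by
    show (e1.hom ≫ e2.hom) ≫ pullback.snd q (B.fromSpecResidueField η) = _
    rw [Category.assoc, he2]
    exact he1
  obtain ⟨ξ⟩ : Nonempty (π.fiber η) := inferInstance
  haveI : IsIso ((π.fiberι η).stalkMap ξ) := isIso_stalkMap_fiberι π ξ
  haveI : IsIso ((q.fiberι η).stalkMap (ε ξ)) := isIso_stalkMap_fiberι q (ε ξ)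
  haveI : IsIso ((ε ≫ q.fiberι η).stalkMap ξ) := by
    rw [Scheme.Hom.stalkMap_comp]; infer_instance
  refine exists_iso_opens π q (π.fiberι η) (ε ≫ q.fiberι η) ?_ ξ
  have c1 : π.fiberι η ≫ π = π.fiberToSpecResidueField η ≫ B.fromSpecResidueField η := pullback.condition
  have c2 : q.fiberι η ≫ q = q.fiberToSpecResidueField η ≫ B.fromSpecResidueField η := pullback.condition
  rw [Category.assoc, c1, c2, reassoc_of% hε]

end Groth.Agent.C1SectLib
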