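import Groth.Prelude.Def_Curves
import Groth.Agent.FF.Misc
import Mathlib.LinearAlgebra.Dimension.Free

/-!
# Genus zero function fields over a field with property `C₁`

Such a function field has a place of degree one: a conic over a `C₁` field has a rational point.
-/

set_option linter.style.haveILetI false

namespace Groth.Agent.C1SectLib

open FunFld Groth.Agent
open scoped WithZero IntermediateField

variable {k K : Type*} [Field k] [Field K] [Algebra k K]

theorem exists_deg_one_of_divisor (hK : IsFunctionField k K) {E : Divisor k K} (h0 : 0 ≤ E) (h1 : E.deg = 1) :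
    ∃ P : Place k K, P.deg = 1 := by
  classical
  obtain ⟨P, hP⟩ := Finsupp.support_nonempty_iff.2 (show E ≠ 0 by
    rintro rfl
    simp [FF.deg_zero] at h1)
  have hle : Finsupp.single P 1 ≤ E := fun Q => by
    rcases eq_or_ne Q P with rfl | h
    · have := h0 Q
      simp only [Finsupp.mem_support_iff, Finsupp.coe_zero, Pi.zero_apply] at hP this
      simp only [Finsupp.single_eq_same]
      omega
    · simpa [Finsupp.single_eq_of_ne h] using h0 Q
  have h2 := FF.deg_mono hle
  have h3 := FF.deg_pos hK P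
  rw [FF.deg_single, h1] at h2
  exact ⟨P, by omega⟩

/-- A quadratic relation between a basis of `L(D)`, `deg D = 2`, with a rational zero gives a place of degree one. -/
theorem core (hK : IsFunctionField k K) {D0 : Divisor k K} (hdeg : D0.deg = 2) {f0 f1 f2 : K}
    (h0 : f0 ∈ L D0) (h1 : f1 ∈ L D0) (h2 : f2 ∈ L D0)
    (hli : ∀ r s t : k, algebraMap k K r * f0 + algebraMap k K s * f1 + algebraMap k K t * f2 = 0 →
      r = 0 ∧ s = 0 ∧ t = 0)
    (c0 c1 c2 c3 c4 c5 a0 a1 : k)
    (hrel : algebraMap k K c0 * f0 ^ 2 + algebraMap k K c1 * f1 ^ 2 + algebraMap k K c2 * f2 ^ 2 +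
      algebraMap k K c3 * (f0 * f1) + algebraMap k K c4 * (f0 * f2) + algebraMap k K c5 * (f1 * f2) = 0)
    (hpt : c0 * a0 ^ 2 + c1 * a1 ^ 2 + c2 + c3 * (a0 * a1) + c4 * a0 + c5 * a1 = 0)
    (hne : ¬ (c0 = 0 ∧ c1 = 0 ∧ c2 = 0 ∧ c3 = 0 ∧ c4 = 0 ∧ c5 = 0)) :
    ∃ P : Place k K, P.deg = 1 := by
  classical
  set A := algebraMap k K with hA
  let w := f2
  let u := f0 - A a0 * w
  let v := f1 - A a1 * w
  have hu0 : u ≠ 0 := fun h => one_ne_zero (hli 1 0 (-a0) (by
    simp only [map_neg, map_one, map_zero, ← hA]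
    linear_combination h)).1
  have hmemA : ∀ (c : k) {f : K}, f ∈ L D0 → A c * f ∈ L D0 := fun c f hf => by
    rw [hA, ← Algebra.smul_def]; exact Submodule.smul_mem _ c hf
  have huL : u ∈ L D0 := Submodule.sub_mem _ h0 (hmemA a0 h2)
  have hvL : v ∈ L D0 := Submodule.sub_mem _ h1 (hmemA a1 h2)
  let D := D0 + div k u
  have hD0 : 0 ≤ D := FF.le_add_div_of_mem_L hK hu0 huL
  have hDdeg : D.deg = 2 := by simp [D, FF.deg_add, FF.deg_div hK, hdeg]
  have hratio : ∀ {f : K}, f ∈ L D0 → f / u ∈ L D := by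
    intro f hf
    rcases eq_or_ne f 0 with rfl | hf0
    · simp
    refine (FF.mem_L_iff_ord (div_ne_zero hf0 hu0)).2 fun P => ?_
    rw [div_eq_mul_inv, FF.ord_mul P hf0 (inv_ne_zero hu0), FF.ord_inv]
    simp only [D, Finsupp.add_apply, FF.div_apply hK]
    have := (FF.mem_L_iff_ord hf0).1 hf P
    omega
  set x := v / u with hx
  set y := w / u with hy
  have hxL : x ∈ L D := hratio hvL
  have hyL : y ∈ L D := hratio h2
  have hxnot : ∀ r : k, x ≠ A r := fun r h => by
    rw [hx, div_eq_iff hu0] at h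
    exact one_ne_zero (hli (-r) 1 (r * a0 - a1) (by
      simp only [map_neg, map_one, map_sub, map_mul, ← hA]
      linear_combination h)).2.1
  have hylin : ∀ r s : k, y ≠ A r + A s * x := fun r s h => by
    rw [hy, hx, div_eq_iff hu0, add_mul, mul_assoc, div_mul_cancel₀ _ hu0] at h
    obtain ⟨hr, hs, ht⟩ := hli r s (-(1 + r * a0 + s * a1)) (by
      simp only [map_neg, map_one, map_add, map_mul, ← hA]
      linear_combination -h)
    subst hr hs
    simp at ht
  have htx : Transcendental k x := FF.transcendental_of_not_mem hK fun ⟨r, hr⟩ => hxnot r hr.symm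
  have hx0 : x ≠ 0 := fun h => hxnot 0 (by simpa using h)
  set α := 2 * c0 * a0 + c3 * a1 + c4 with hα
  set β := 2 * c1 * a1 + c3 * a0 + c5 with hβ
  have hrel' : A c0 + A c3 * x + A c1 * x ^ 2 + y * (A α + A β * x) = 0 := by
    have e : A c0 * u ^ 2 + A c1 * v ^ 2 + A c3 * (u * v) + w * (A α * u + A β * v) = 0 := by
      have hpt' := congrArg A hpt
      simp only [map_add, map_mul, map_pow, map_zero] at hpt'
      simp only [hα, hβ, map_add, map_mul, map_ofNat, u, v, w]
      linear_combination hrel - f2 ^ 2 * hpt'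
    have e' : A c0 + A c3 * x + A c1 * x ^ 2 + y * (A α + A β * x) =
        (A c0 * u ^ 2 + A c1 * v ^ 2 + A c3 * (u * v) + w * (A α * u + A β * v)) / u ^ 2 := by
      rw [hx, hy]; field_simp; ring
    rw [e', e, zero_div]
  -- the degree of `x`
  haveI := FF.finiteDimensional_adjoin hK htx
  have hfin : 0 < Module.finrank k⟮x⟯ K := Module.finrank_pos
  have htx' : Transcendental k x⁻¹ := fun h => htx (by simpa using h.inv)
  have hpol : FF.zeros (k := k) x⁻¹ ≤ D := fun P => by
    have h' := (FF.mem_L_iff_ord hx0).1 hxL P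
    have := hD0 P
    simp only [Finsupp.coe_zero, Pi.zero_apply] at this
    rw [FF.zeros_apply hK, FF.ord_inv]
    omega
  have hdx := FF.deg_mono hpol
  rw [FF.deg_zeros hK htx', FF.adjoin_inv, hDdeg] at hdx
  rcases (show Module.finrank k⟮x⟯ K = 1 ∨ Module.finrank k⟮x⟯ K = 2 by omega) with hd | hd
  · exact exists_deg_one_of_divisor hK (FF.zeros_nonneg x) (by rw [FF.deg_zeros hK htx, hd]; rfl)
  exfalso
  have hDeq : FF.zeros (k := k) x⁻¹ = D := by
    have h' : D - FF.zeros (k := k) x⁻¹ = 0 := FF.eq_zero_of_nonneg_of_deg hK (fun P => by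
        have := hpol P
        simp only [Finsupp.coe_zero, Pi.zero_apply, Finsupp.sub_apply]
        omega)
      (by rw [FF.deg_sub, FF.deg_zeros hK htx', FF.adjoin_inv, hd, hDdeg]; rfl)
    exact (sub_eq_zero.1 h').symm
  have hvA : ∀ (P : Place k K) (c : k), P.1 (A c) ≤ 1 := fun P c => P.2.1 c
  by_cases hβ0 : β = 0
  · by_cases hα0 : α = 0
    · have hp : Polynomial.aeval x (Polynomial.C c0 + Polynomial.C c3 * Polynomial.X +
          Polynomial.C c1 * Polynomial.X ^ 2) = 0 := by
        simpa [hα0, hβ0, ← hA] using hrel'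
      have hp0 := (transcendental_iff.1 htx) _ hp
      have e0 : c0 = 0 := by simpa using congrArg (fun p => Polynomial.coeff p 0) hp0
      have e3 : c3 = 0 := by simpa using congrArg (fun p => Polynomial.coeff p 1) hp0
      have e1 : c1 = 0 := by simpa [Polynomial.coeff_C, Polynomial.coeff_X] using congrArg (fun p => Polynomial.coeff p 2) hp0
      refine hne ⟨e0, e1, ?_, e3, by simpa [hα, e0, e3] using hα0, by simpa [hβ, e1, e3] using hβ0⟩
      have e4 : c4 = 0 := by simpa [hα, e0, e3] using hα0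
      have e5 : c5 = 0 := by simpa [hβ, e1, e3] using hβ0
      simpa [e0, e1, e3, e4, e5] using hpt
    · rw [hβ0, map_zero, zero_mul, add_zero] at hrel'
      have hAα : A α ≠ 0 := (map_ne_zero _).2 hα0
      by_cases hc1 : c1 = 0
      · refine hylin (-c0 / α) (-c3 / α) ?_
        rw [hc1, map_zero, zero_mul, add_zero] at hrel'
        rw [map_div₀, map_div₀, map_neg, map_neg]
        field_simp
        linear_combination hrel'
      · obtain ⟨P, hP⟩ := FF.exists_zero hK htx'
        have hx1 : 1 < P.1 x := by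
          have hne : P.1 x ≠ 0 := (map_ne_zero _).2 hx0
          rwa [map_inv₀, inv_lt_one₀ (zero_lt_iff.2 hne)] at hP
        have hord : P.ord x < 0 := by
          by_contra h
          exact not_le.2 hx1 ((FF.v_le_one_iff P hx0).2 (by omega))
        have hy1 : P.1 y ≤ P.1 x := by
          refine (hyL P).trans (le_of_eq ?_)
          rw [← hDeq, FF.zeros_apply hK, FF.ord_inv, max_eq_left (by omega), FF.v_eq_exp P hx0]
        have hb : P.1 (A c1 * x ^ 2) ≤ P.1 x := by
          rw [show A c1 * x ^ 2 = -(A c0 + A c3 * x + A α * y) by linear_combination hrel', Valuation.map_neg]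
          refine (P.1.map_add _ _).trans (max_le ((P.1.map_add _ _).trans (max_le ((hvA P c0).trans hx1.le) ?_)) ?_)
          · rw [map_mul]; exact (mul_le_mul_left (hvA P c3) _).trans_eq (one_mul _)
          · rw [map_mul]; exact (mul_le_mul' (hvA P α) hy1).trans_eq (one_mul _)
        rw [map_mul, map_pow, hA, FF.v_algebraMap P hc1, one_mul, pow_two] at hb
        exact not_lt.2 hb (lt_mul_of_one_lt_left (zero_lt_iff.2 ((map_ne_zero _).2 hx0)) hx1)
  · set t := A α + A β * x with ht
    have hAβ : A β ≠ 0 := (map_ne_zero _).2 hβ0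
    have htt : Transcendental k t := FF.transcendental_of_not_mem hK fun ⟨r, hr⟩ => hxnot ((r - α) / β) (by
      rw [map_div₀, map_sub, eq_div_iff hAβ]
      linear_combination -hr)
    obtain ⟨P, hP⟩ := FF.exists_zero hK htt
    have hx1 : P.1 x ≤ 1 := by
      have h' : P.1 (A β * x) ≤ 1 := by
        rw [show A β * x = t - A α by rw [ht]; ring]
        exact (P.1.map_sub _ _).trans (max_le hP.le (hvA P α))
      rwa [map_mul, hA, FF.v_algebraMap P hβ0, one_mul] at h'
    have hy1 : P.1 y ≤ 1 := by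
      refine (hyL P).trans (le_of_eq ?_)
      have := (FF.v_le_one_iff P hx0).1 hx1
      rw [← hDeq, FF.zeros_apply hK, FF.ord_inv, max_eq_right (by omega), WithZero.exp_zero]
    set s := c1 / β with hs
    set r := (c3 - s * α) / β with hr
    have he : t * (y + A r + A s * x) = A (r * α - c0) := by
      have e1 : A β * A s = A c1 := by rw [← map_mul, hs, mul_div_cancel₀ _ hβ0]
      have e2 : A β * A r = A c3 - A s * A α := by
        rw [← map_mul, hr, mul_div_cancel₀ _ hβ0, map_sub, map_mul]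
      rw [map_sub, map_mul, ht]
      linear_combination hrel' + x ^ 2 * e1 + x * e2
    by_cases he0 : r * α - c0 = 0
    · rw [he0, map_zero] at he
      rcases mul_eq_zero.1 he with h' | h'
      · exact htt (h' ▸ isAlgebraic_zero)
      · refine hylin (-r) (-s) ?_
        rw [map_neg, map_neg]
        linear_combination h'
    · have hv := congrArg P.1 he
      rw [map_mul, hA, FF.v_algebraMap P he0] at hv
      have hsum : P.1 (y + A r + A s * x) ≤ 1 := by
        refine (P.1.map_add _ _).trans (max_le ((P.1.map_add _ _).trans (max_le hy1 (hvA P r))) ?_)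
        rw [map_mul]; exact (mul_le_mul' (hvA P s) hx1).trans_eq (one_mul _)
      have : P.1 t * P.1 (y + A r + A s * x) < 1 := (mul_le_of_le_one_right' hsum).trans_lt hP
      exact absurd hv this.ne

open MvPolynomial in
/-- A function field of genus zero over a `C₁` field has a place of degree one. -/
theorem exists_place_deg_one (hK : IsFunctionField k K) (hg : genus k K = 0) (hC1 : Curves.IsCi k 1) :
    ∃ P : Place k K, P.deg = 1 := by
  classical
  obtain ⟨C, hC⟩ := FF.exists_canonical hK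
  have hCd := (FF.canonical_deg hK hC).2
  rw [hg] at hCd
  obtain ⟨z, hz, hzL⟩ := FF.exists_ne_zero_of_ell_pos (D := -C) (by
    have := FF.ell_of_deg_large hK (D := -C) (by rw [FF.deg_neg, hg]; omega)
    rw [FF.deg_neg, hg] at this; omega)
  let D0 := -C + div k z
  have hd : D0.deg = 2 := by
    simp only [D0, FF.deg_add, FF.deg_neg, FF.deg_div hK]; omega
  have h3 : Module.finrank k (L D0) = 3 := by
    have := FF.ell_of_deg_large hK (D := D0) (by rw [hd, hg]; norm_num)
    rw [hd, hg] at this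
    simp only [ell] at this; omega
  have h5 : Module.finrank k (L (D0 + D0)) = 5 := by
    have := FF.ell_of_deg_large hK (D := D0 + D0) (by rw [FF.deg_add, hd, hg]; norm_num)
    rw [FF.deg_add, hd, hg] at this
    simp only [ell] at this; omega
  haveI := FF.finite_L hK D0
  haveI := FF.finite_L hK (D0 + D0)
  let b := Module.finBasisOfFinrankEq k (L D0) h3
  let f : Fin 3 → K := fun i => (b i : K)
  have hf : ∀ i, f i ∈ L D0 := fun i => (b i).2
  have hli : ∀ r : Fin 3 → k, algebraMap k K (r 0) * f 0 + algebraMap k K (r 1) * f 1 +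
      algebraMap k K (r 2) * f 2 = 0 → ∀ i, r i = 0 := by
    intro r hr
    refine Fintype.linearIndependent_iff.1 b.linearIndependent r ?_
    rw [Fin.sum_univ_three]
    refine Subtype.ext ?_
    simpa [Algebra.smul_def, f] using hr
  let m : Fin 6 → L (D0 + D0) := ![⟨f 0 * f 0, FF.mul_mem_L (hf 0) (hf 0)⟩, ⟨f 1 * f 1, FF.mul_mem_L (hf 1) (hf 1)⟩,
    ⟨f 2 * f 2, FF.mul_mem_L (hf 2) (hf 2)⟩, ⟨f 0 * f 1, FF.mul_mem_L (hf 0) (hf 1)⟩,
    ⟨f 0 * f 2, FF.mul_mem_L (hf 0) (hf 2)⟩, ⟨f 1 * f 2, FF.mul_mem_L (hf 1) (hf 2)⟩]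
  obtain ⟨c, hsum, i, hi⟩ := Fintype.not_linearIndependent_iff.1 (fun h : LinearIndependent k m => by
    have := h.fintype_card_le_finrank
    rw [h5, Fintype.card_fin] at this; omega)
  have hrel : algebraMap k K (c 0) * f 0 ^ 2 + algebraMap k K (c 1) * f 1 ^ 2 + algebraMap k K (c 2) * f 2 ^ 2 +
      algebraMap k K (c 3) * (f 0 * f 1) + algebraMap k K (c 4) * (f 0 * f 2) +
      algebraMap k K (c 5) * (f 1 * f 2) = 0 := by
    have h' := congrArg (Subtype.val (p := fun x => x ∈ L (D0 + D0))) hsum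
    rw [Fin.sum_univ_six] at h'
    simpa [m, Algebra.smul_def, pow_two] using h'
  let q : MvPolynomial (Fin 3) k := MvPolynomial.C (c 0) * X 0 ^ 2 + MvPolynomial.C (c 1) * X 1 ^ 2 +
    MvPolynomial.C (c 2) * X 2 ^ 2 + MvPolynomial.C (c 3) * (X 0 * X 1) + MvPolynomial.C (c 4) * (X 0 * X 2) +
    MvPolynomial.C (c 5) * (X 1 * X 2)
  have hmul : ∀ i j : Fin 3, (X i * X j : MvPolynomial (Fin 3) k).IsHomogeneous 2 := fun i j =>
    (isHomogeneous_X k i).mul (isHomogeneous_X k j)
  have hq : q.IsHomogeneous 2 :=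
    ((((((isHomogeneous_X k 0).pow 2).C_mul _).add (((isHomogeneous_X k 1).pow 2).C_mul _)).add
      (((isHomogeneous_X k 2).pow 2).C_mul _)).add ((hmul 0 1).C_mul _)).add ((hmul 0 2).C_mul _) |>.add
      ((hmul 1 2).C_mul _)
  obtain ⟨a, ha, hqa⟩ := hC1 1 3 (fun _ => q) (fun _ => 2) (fun _ => hq) (fun _ => by norm_num) (by simp)
  have hqa' := hqa 0
  simp only [q, map_add, map_mul, map_pow, eval_C, eval_X] at hqa'
  have hne : ¬ (c 0 = 0 ∧ c 1 = 0 ∧ c 2 = 0 ∧ c 3 = 0 ∧ c 4 = 0 ∧ c 5 = 0) := by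
    rintro ⟨e0, e1, e2, e3, e4, e5⟩
    fin_cases i <;> contradiction
  have hli' : ∀ r s t : k, algebraMap k K r * f 0 + algebraMap k K s * f 1 + algebraMap k K t * f 2 = 0 →
      r = 0 ∧ s = 0 ∧ t = 0 := fun r s t h => by
    have := hli ![r, s, t] (by simpa using h)
    exact ⟨this 0, this 1, this 2⟩
  by_cases ha2 : a 2 = 0
  · by_cases ha1 : a 1 = 0
    · have ha0 : a 0 ≠ 0 := fun h => ha (funext fun j => by fin_cases j <;> assumption)
      -- `(a 0 : 0 : 0)`
      refine core hK hd (hf 1) (hf 2) (hf 0) (fun r s t h => ?_) (c 1) (c 2) (c 0) (c 5) (c 3) (c 4) 0 0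
        (by linear_combination hrel) ?_ (by tauto)
      · obtain ⟨x1, x2, x3⟩ := hli' t r s (by linear_combination h)
        exact ⟨x2, x3, x1⟩
      · simp [ha1, ha2, ha0] at hqa'
        simp [hqa']
    · -- `(a 0 : a 1 : 0)`
      refine core hK hd (hf 0) (hf 2) (hf 1) (fun r s t h => ?_) (c 0) (c 2) (c 1) (c 4) (c 3) (c 5) (a 0 / a 1) 0
        (by linear_combination hrel) ?_ (by tauto)
      · obtain ⟨x1, x2, x3⟩ := hli' r t s (by linear_combination h)
        exact ⟨x1, x3, x2⟩
      · simp only [ha2] at hqa'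
        field_simp
        linear_combination hqa'
  · refine core hK hd (hf 0) (hf 1) (hf 2) hli' (c 0) (c 1) (c 2) (c 3) (c 4) (c 5) (a 0 / a 2) (a 1 / a 2)
      hrel ?_ hne
    field_simp
    linear_combination hqa'

end Groth.Agent.C1SectLib
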