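import Groth.Agent.C1SectLib.Section
import Groth.Agent.CurveP1Lib.Rational
import Groth.Agent.ProjSerreLib.CMDual

/-!
# The case of a geometrically integral generic fibre
-/

set_option autoImplicit false
set_option backward.isDefEq.respectTransparency false
set_option backward.isDefEq.respectTransparency.types false
set_option linter.style.haveILetI false

universe u

open CategoryTheory CategoryTheory.Limits AlgebraicGeometry

noncomputable section

namespace Groth.Agent.C1SectLib

/-- A geometrically integral proper curve of genus zero has constant global functions and is regular. -/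
theorem data_of_geomIntegral (K : Type u) [Field K] (Z : Scheme.{u}) [Z.Over (Spec (CommRingCat.of K))]
    [IsProper (Z ↘ Spec (CommRingCat.of K))] [GeometricallyIntegral (Z ↘ Spec (CommRingCat.of K))]
    (hdim : topologicalKrullDim Z = 1) (hg : Curv2.genus K Z = 0) :
    Module.finrank K (Coh.HH Z (Coh.structureModule Z) 0) = 1 ∧ ∀ z : Z, IsRegularLocalRing (Z.presheaf.stalk z) := by
  haveI : IsIntegral Z := GeometricallyIntegral.isIntegral_of_subsingleton (Z ↘ (Spec (CommRingCat.of K)))
  haveI := EulerIneqLib.isNoetherian_proper (X := Z) K
  refine ⟨?_, fun z => ?_⟩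
  · let L := AlgebraicClosure K
    haveI : IsIntegral (Curv2.bc K Z L) :=
      inferInstanceAs (IsIntegral (pullback (Z ↘ Spec (CommRingCat.of K))
        (Spec.map (CommRingCat.ofHom (algebraMap K L)))))
    exact (CurveP1Lib.finrank_HH_bc_structure K L 0).symm.trans CurveLib.finrank_H0_structure
  · haveI := CurveP1Lib.smooth_of_genus_zero (k := K) (X := Z) hdim hg
    exact S1535.result K Z z

end Groth.Agent.C1SectLib
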