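import Groth.Agent.C1SectLib.Section
import Groth.Agent.RuledPushLib.Main
import Groth.Agent.GenBCLib.Betti
import Groth.Agent.ShBCLib.Finrank
import Groth.Agent.S1535

/-!
# The generic fibre of a geometrically ruled surface
-/

set_option autoImplicit false
set_option backward.isDefEq.respectTransparency false
set_option backward.isDefEq.respectTransparency.types false
set_option linter.style.haveILetI false
set_option linter.unusedSectionVars false
set_option maxHeartbeats 800000
set_option synthInstance.maxHeartbeats 200000

universe u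

open CategoryTheory CategoryTheory.Limits AlgebraicGeometry TopologicalSpace

noncomputable section

namespace Groth.Agent.C1SectLib

variable (k : Type u) [Field k] [IsAlgClosed k] {X C : Scheme.{u}} [X.Over (Spec (CommRingCat.of k))]
  [IsProper (X ↘ Spec (CommRingCat.of k))] [IsIntegral X]
  [C.Over (Spec (CommRingCat.of k))] [IsIntegral C] [IsProper (C ↘ Spec (CommRingCat.of k))]
  (hdimC : topologicalKrullDim C = 1)
  (hregC : ∀ x : C, IsRegularLocalRing (C.presheaf.stalk x))
  (π : X ⟶ C) (hπ : π ≫ (C ↘ Spec (CommRingCat.of k)) = X ↘ Spec (CommRingCat.of k))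
  (hsurj : Function.Surjective π)
  (hfib : ∀ y : C, IsClosed ({y} : Set C) → Nonempty (pullback π (C.fromSpecResidueField y) ≅ CohB1.ProjSpace 1 k))

include k hdimC hregC hπ hsurj hfib in
theorem fiberRank_generic :
    CohIII.fiberRank π (Coh.structureModule X) 0 (genericPoint C) < 2 ∧
      CohIII.fiberRank π (Coh.structureModule X) 1 (genericPoint C) < 1 := by
  haveI := RuledPushLib.isProper_map k π hπ
  haveI := RuledPushLib.flat_map k hdimC hregC π hsurj
  haveI := RuledPushLib.lfp_map k π hπ
  haveI := EulerIneqLib.isNoetherian_proper (X := C) k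
  have hlf := CurveLib.isFinLocFree_of_isInvertible (ParaFLib.isInvertible_structureModule (X := X))
  obtain ⟨hq, hfp⟩ := PullbackMod.isQCoh_and_isFP_of_isFinLocFree _ hlf
  haveI : Coh.IsQCoh (Coh.structureModule X) := hq
  have hfl : FlatMod.IsFlatOver π (Coh.structureModule X) := TildePerf.isFlatOver_of_isFinLocFree _ hlf
  obtain ⟨y, hy, hsy⟩ := RuledPushLib.exists_closed_spec (genericPoint C)
  obtain ⟨e⟩ := hfib y hy
  haveI := GenSeesawLib.subsingleton_fiberH_of_iso (f := π) (y := y) (p := 1)
    (RuledPushLib.subsingleton_H1_fiber k π y e) (AmpleLib.pullO (π.fiberι y)).symm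
  refine ⟨hsy.mem_open (GenBCLib.isOpen_fiberRank_lt hfp hfl 0 2) ?_,
    hsy.mem_open (GenBCLib.isOpen_fiberRank_lt hfp hfl 1 1) ?_⟩
  · have h : CohIII.fiberRank π (Coh.structureModule X) 0 y = 1 := by
      letI : (π.fiber y).Over (Spec (C.residueField y)) := ⟨π.fiberToSpecResidueField y⟩
      haveI := RuledPushLib.isIntegral_fiber k π y e
      have hb := RuledPushLib.bijective_fiber k π hπ y hy e
      show Module.finrank (C.residueField y) (CohIII.fiberH π (Coh.structureModule X) y 0) = 1
      refine (ShBCLib.finrank_HH_iso (K := C.residueField y) (AmpleLib.pullO (π.fiberι y)).symm 0).symm.trans ?_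
      let φ : C.residueField y →+* Γ(π.fiber y, ⊤) := Coh.toGlobal (π.fiberToSpecResidueField y)
      letI := φ.toAlgebra
      let j : Coh.HH (π.fiber y) (Coh.structureModule (π.fiber y)) 0 ≃ₗ[C.residueField y] Γ(π.fiber y, ⊤) :=
        { (CurveLib.secOf (Coh.structureModule (π.fiber y))) with
          map_smul' := fun r c => CurveLib.secOf_smul (k := C.residueField y) _ r c }
      rw [j.finrank_eq]
      exact (LinearEquiv.ofBijective (Algebra.linearMap (C.residueField y) Γ(π.fiber y, ⊤)) hb).finrank_eq.symm.trans
        (Module.finrank_self _)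
    show CohIII.fiberRank π (Coh.structureModule X) 0 y < 2
    omega
  · show Module.finrank (C.residueField y) (CohIII.fiberH π (Coh.structureModule X) y 1) < 1
    rw [Module.finrank_zero_of_subsingleton]
    exact zero_lt_one

end Groth.Agent.C1SectLib
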