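import Groth.Agent.C1SectLib.FF
import Groth.Agent.CurveFF.Genus
import Groth.Agent.CurveFF.Morph
import Groth.Agent.CurveFF.Duality
import Groth.Agent.GeomIrred.CurvPoint
import Groth.Agent.AVLib.Deg.Compare
import Groth.Agent.DimFormulaLib.Catenary
import Groth.Agent.S0212
import Groth.Agent.S8886

/-!
# Sections of fibrations with generic fibre of genus zero over curves

Over an algebraically closed field the function field of a curve is `C₁` (Tsen), hence a regular proper
generic fibre of genus zero has a rational point, which extends to a section.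
-/

set_option autoImplicit false
set_option backward.isDefEq.respectTransparency false
set_option backward.isDefEq.respectTransparency.types false
set_option linter.style.haveILetI false
set_option linter.unusedSectionVars false
set_option maxHeartbeats 800000

universe u

open CategoryTheory CategoryTheory.Limits AlgebraicGeometry TopologicalSpace

noncomputable section

namespace Groth.Agent.C1SectLib

attribute [local instance] Curv2.stalkAlgebra
attribute [local instance high] FunFld.Place.algRes

/-- A regular proper curve of genus zero over a `C₁` field has a rational point. -/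
theorem exists_ratPoint (K : Type u) [Field K] (hC1 : Curves.IsCi K 1) (Z : Scheme.{u})
    [Z.Over (Spec (CommRingCat.of K))] [IsProper (Z ↘ Spec (CommRingCat.of K))] [IsIntegral Z]
    (hdim : topologicalKrullDim Z = 1) (hreg : ∀ z : Z, IsRegularLocalRing (Z.presheaf.stalk z))
    (h0 : Module.finrank K (Coh.HH Z (Coh.structureModule Z) 0) = 1) (hg : Curv2.genus K Z = 0) :
    ∃ s : Spec (CommRingCat.of K) ⟶ Z, s ≫ (Z ↘ Spec (CommRingCat.of K)) = 𝟙 _ := by
  haveI := CurveFF.isRegCurve_of_regular hdim.le hreg
  have hK := CurveFF.isFunctionField K hdim h0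
  obtain ⟨P, hP⟩ := exists_place_deg_one hK ((CurveFF.genus_eq hdim h0).symm.trans hg) hC1
  obtain ⟨z, hz, rfl⟩ := CurveFF.placeOf_surjective hdim P
  rw [CurveFF.deg_placeOf hdim hz] at hP
  letI := Curv2.resAlgebra K Z z
  haveI : Module.Finite K (Z.residueField z) := Module.finite_of_finrank_eq_succ hP
  have hb : Function.Bijective (Curv2.resMap K Z z) :=
    bijective_algebraMap_of_linearEquiv (LinearEquiv.ofFinrankEq K (Z.residueField z) (by rw [Module.finrank_self, hP]))
  haveI : IsIso (CommRingCat.ofHom (Curv2.resMap K Z z)) := (ConcreteCategory.isIso_iff_bijective _).2 hb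
  refine ⟨inv (Spec.map (CommRingCat.ofHom (Curv2.resMap K Z z))) ≫ Z.fromSpecResidueField z, ?_⟩
  rw [Category.assoc, ← GeomIrred.spec_resMap, IsIso.inv_hom_id]

/-- The function field of a curve over an algebraically closed field is `C₁`. -/
theorem isCi_one (k : Type u) [Field k] [IsAlgClosed k] (B : Scheme.{u}) [B.Over (Spec (CommRingCat.of k))]
    [IsIntegral B] [IsProper (B ↘ Spec (CommRingCat.of k))] (hdim : topologicalKrullDim B = 1) :
    Curves.IsCi (B.residueField (genericPoint B)) 1 := by
  letI := Curv2.resAlgebra k B (genericPoint B)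
  refine S0212.result k (B.residueField (genericPoint B)) 1 ?_
  letI : Algebra B.functionField (B.residueField (genericPoint B)) := (B.residue (genericPoint B)).hom.toAlgebra
  haveI : IsScalarTower k B.functionField (B.residueField (genericPoint B)) := .of_algebraMap_eq fun _ => rfl
  have hb : Function.Bijective (IsScalarTower.toAlgHom k B.functionField (B.residueField (genericPoint B))) :=
    ⟨(IsScalarTower.toAlgHom k B.functionField (B.residueField (genericPoint B))).toRingHom.injective,
      IsLocalRing.residue_surjective⟩
  rw [← (AlgEquiv.ofBijective _ hb).trdeg_eq, AVLib.Deg.trdeg_functionField k (g := 1) (by exact_mod_cast hdim),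
    Nat.cast_one]

variable (k : Type u) [Field k] {X B : Scheme.{u}} [X.Over (Spec (CommRingCat.of k))]
  [IsProper (X ↘ Spec (CommRingCat.of k))] [IsIntegral X]
  [B.Over (Spec (CommRingCat.of k))] [IsIntegral B] [IsProper (B ↘ Spec (CommRingCat.of k))]
  (π : X ⟶ B) (hπ : π ≫ (B ↘ Spec (CommRingCat.of k)) = X ↘ Spec (CommRingCat.of k))
  (hsurj : Function.Surjective π)

include k hπ hsurj in
theorem dim_genFibre (hX : topologicalKrullDim X = 2) (hB : topologicalKrullDim B = 1) :
    topologicalKrullDim (π.fiber (genericPoint B)) = 1 := by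
  haveI : IsProper (π ≫ (B ↘ Spec (CommRingCat.of k))) := hπ ▸ inferInstance
  haveI : IsProper π := IsProper.of_comp π (B ↘ Spec (CommRingCat.of k))
  haveI := EulerIneqLib.isNoetherian_proper (X := B) k
  obtain ⟨n, hn, hfib, -⟩ := DimFormulaLib.genericFibre_dim π hsurj.denseRange
  have h := (DimFormulaLib.topologicalKrullDim_eq_add_of_isClosedMap π hsurj.denseRange n hn).2 π.isClosedMap
  rw [hX, hB] at h
  have hn1 : n = 1 := by
    have : (2 : ℕ) = 1 + n := by exact_mod_cast h
    omega
  rw [hfib, hn1, Nat.cast_one]

/-- The stalks of the generic fibre are stalks of the total space. -/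
theorem isIso_stalkMap_fiberι {X B : Scheme.{u}} [IsIntegral B] (π : X ⟶ B) (z : π.fiber (genericPoint B)) :
    IsIso ((π.fiberι (genericPoint B)).stalkMap z) := by
  have hf : IsField (B.presheaf.stalk (genericPoint B)) := Field.toIsField B.functionField
  have hz : π (π.fiberι (genericPoint B) z) = genericPoint B := by
    have : π.fiberι (genericPoint B) z ∈ Set.range (π.fiberι (genericPoint B)) := ⟨z, rfl⟩
    rwa [Scheme.Hom.range_fiberι] at this
  haveI : IsIso (Spec.map (B.residue (genericPoint B))) := by
    have : IsIso (B.residue (genericPoint B)) :=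
      (ConcreteCategory.isIso_iff_bijective _).2 ⟨(B.residue (genericPoint B)).hom.injective,
        IsLocalRing.residue_surjective⟩
    infer_instance
  let e : π.fiber (genericPoint B) ⟶ pullback π (B.fromSpecStalk (genericPoint B)) :=
    pullback.map π (B.fromSpecResidueField _) π (B.fromSpecStalk _) (𝟙 X) (Spec.map (B.residue _)) (𝟙 B)
      (by simp) (by simp [Scheme.fromSpecResidueField])
  have he : e ≫ pullback.fst π (B.fromSpecStalk (genericPoint B)) = π.fiberι (genericPoint B) :=
    (pullback.lift_fst _ _ _).trans (Category.comp_id _)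
  haveI : IsIso e := pullback.map_isIso _ _ _ _ _ _ _ _ _
  have h1 : IsIso ((pullback.fst π (B.fromSpecStalk (genericPoint B))).stalkMap (e z)) := S4366.result π _ _
  have h2 : IsIso ((π.fiberι (genericPoint B)).stalkMap z) := by
    rw [← he, Scheme.Hom.stalkMap_comp]
    exact IsIso.comp_isIso' h1 inferInstance
  exact h2

theorem exists_stalk_iso {X B : Scheme.{u}} [IsIntegral B] (π : X ⟶ B) (z : π.fiber (genericPoint B)) :
    Nonempty (X.presheaf.stalk (π.fiberι (genericPoint B) z) ≅ (π.fiber (genericPoint B)).presheaf.stalk z) :=
  haveI := isIso_stalkMap_fiberι π z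
  ⟨asIso ((π.fiberι (genericPoint B)).stalkMap z)⟩

/-- The generic fibre of a surjection of integral schemes is integral. -/
theorem isIntegral_genFibre {X B : Scheme.{u}} [IsIntegral X] [IsIntegral B] (π : X ⟶ B)
    (hsurj : Function.Surjective π) : IsIntegral (π.fiber (genericPoint B)) := by
  haveI : ∀ z : π.fiber (genericPoint B), _root_.IsReduced ((π.fiber (genericPoint B)).presheaf.stalk z) := fun z => by
    obtain ⟨e⟩ := exists_stalk_iso π z
    exact isReduced_of_injective e.inv.hom (ConcreteCategory.bijective_of_isIso e.inv).1
  haveI := isReduced_of_isReduced_stalk (π.fiber (genericPoint B))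
  have hη := DimFormulaLib.image_genericPoint π hsurj.denseRange
  obtain ⟨ξ, hξ⟩ : genericPoint X ∈ Set.range (π.fiberι (genericPoint B)) := by
    rw [Scheme.Hom.range_fiberι]; exact hη
  haveI : IrreducibleSpace (π.fiber (genericPoint B)) := by
    haveI : Nonempty (π.fiber (genericPoint B)) := ⟨ξ⟩
    have h : closure ({ξ} : Set ↥(π.fiber (genericPoint B))) = Set.univ := Set.eq_univ_of_forall fun z => by
      rw [(π.fiberι (genericPoint B)).isEmbedding.isInducing.closure_eq_preimage_closure_image, Set.image_singleton, hξ,
        (genericPoint_spec X).def]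
      trivial
    have h' : IsIrreducible (Set.univ : Set ↥(π.fiber (genericPoint B))) := h ▸ isIrreducible_singleton.closure
    exact (irreducibleSpace_def _).2 h'
  exact isIntegral_of_irreducibleSpace_of_isReduced _

include k hπ in
/-- A rational point of the generic fibre extends to a section. -/
theorem exists_section_of_point (hB : topologicalKrullDim B = 1) (hregB : ∀ b : B, IsRegularLocalRing (B.presheaf.stalk b))
    (s : Spec (B.residueField (genericPoint B)) ⟶ π.fiber (genericPoint B))
    (hs : s ≫ π.fiberToSpecResidueField (genericPoint B) = 𝟙 _) : ∃ σ : B ⟶ X, σ ≫ π = 𝟙 B := by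
  haveI := CurveFF.isRegCurve_of_regular hB.le hregB
  haveI : IsIso (B.residue (genericPoint B)) :=
    (ConcreteCategory.isIso_iff_bijective _).2 ⟨(RingHom.injective (R := B.functionField) (B.residue (genericPoint B)).hom),
      IsLocalRing.residue_surjective⟩
  let φ : Spec B.functionField ⟶ X := inv (Spec.map (B.residue (genericPoint B))) ≫ s ≫ π.fiberι (genericPoint B)
  have hφ : φ ≫ π = B.fromSpecStalk (genericPoint B) := by
    have hc : π.fiberι (genericPoint B) ≫ π =
        π.fiberToSpecResidueField (genericPoint B) ≫ B.fromSpecResidueField (genericPoint B) := pullback.condition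
    simp only [φ, Category.assoc, hc]
    rw [reassoc_of% hs, Scheme.fromSpecResidueField, IsIso.inv_hom_id_assoc]
  obtain ⟨g, ⟨hg, hg'⟩, -⟩ := CurveFF.existsUnique_hom_of_generic hB (X ↘ Spec (CommRingCat.of k)) φ
    (by rw [← hπ, reassoc_of% hφ])
  haveI := CurveFF.isDominant_fromSpecStalk_generic (X := B)
  refine ⟨g, ext_of_isDominant_of_isSeparated (B ↘ Spec (CommRingCat.of k)) ?_
    (B.fromSpecStalk (genericPoint B)) ?_⟩
  · rw [Category.assoc, hπ, hg', Category.id_comp]
  · rw [reassoc_of% hg, hφ, Category.comp_id]

include k hπ hsurj in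
/-- A fibration over a curve with regular generic fibre of genus zero has a section. -/
theorem exists_section [IsAlgClosed k] (hX : topologicalKrullDim X = 2) (hB : topologicalKrullDim B = 1)
    (hregB : ∀ b : B, IsRegularLocalRing (B.presheaf.stalk b))
    (hreg : ∀ z : π.fiber (genericPoint B), IsRegularLocalRing ((π.fiber (genericPoint B)).presheaf.stalk z))
    (h0 : letI : (π.fiber (genericPoint B)).Over (Spec (B.residueField (genericPoint B))) :=
        ⟨π.fiberToSpecResidueField (genericPoint B)⟩
      Module.finrank (B.residueField (genericPoint B))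
        (Coh.HH (π.fiber (genericPoint B)) (Coh.structureModule (π.fiber (genericPoint B))) 0) = 1)
    (hg : letI : (π.fiber (genericPoint B)).Over (Spec (B.residueField (genericPoint B))) :=
        ⟨π.fiberToSpecResidueField (genericPoint B)⟩
      Curv2.genus (B.residueField (genericPoint B)) (π.fiber (genericPoint B)) = 0) :
    ∃ σ : B ⟶ X, σ ≫ π = 𝟙 B := by
  haveI : IsProper (π ≫ (B ↘ Spec (CommRingCat.of k))) := hπ ▸ inferInstance
  haveI : IsProper π := IsProper.of_comp π (B ↘ Spec (CommRingCat.of k))
  haveI := isIntegral_genFibre π hsurj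
  letI : (π.fiber (genericPoint B)).Over (Spec (B.residueField (genericPoint B))) :=
    ⟨π.fiberToSpecResidueField (genericPoint B)⟩
  haveI : IsProper (π.fiber (genericPoint B) ↘ Spec (CommRingCat.of (B.residueField (genericPoint B)))) :=
    MorphismProperty.pullback_snd (P := @IsProper) π (B.fromSpecResidueField (genericPoint B)) inferInstance
  obtain ⟨s, hs⟩ := exists_ratPoint (B.residueField (genericPoint B)) (isCi_one k B hB) (π.fiber (genericPoint B))
    (dim_genFibre k π hπ hsurj hX hB) hreg h0 hg
  exact exists_section_of_point k π hπ hB hregB s hs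

end Groth.Agent.C1SectLib
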